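import Cfsg.Agent.Lib.SpBound.SpN
import Cfsg.Agent.S2411
import Cfsg.Prelude.Def_Classical

/-!
Every simple `PSp₂ₘ(q)` has a presentation on two generators with at most eighty relations.
-/

set_option autoImplicit false
set_option linter.unusedSectionVars false
set_option linter.style.haveILetI false

namespace Cfsg.Agent.SpBound

open SpAmalgam BoundedPres

variable {F : Type*} [Field F] {n : ℕ}

/-- The scalar minus one. -/
noncomputable def negOne : Gsp F n :=
  mkG (-LinearMap.id) fun v w => by simp

theorem mv_negOne (v : Vec F n) : mv (negOne : Gsp F n) v = -v := by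
  rw [negOne, mv_mkG]; rfl

theorem negOne_center : (negOne : Gsp F n) ∈ Subgroup.center (Gsp F n) :=
  Subgroup.mem_center_iff.2 fun g => ext_mv fun v => by
    rw [mv_mul, mv_mul, mv_negOne, mv_negOne, ← neg_one_smul F, mv_smul, neg_one_smul]

theorem center_scalar {g : Gsp F n} (hg : g ∈ Subgroup.center (Gsp F n)) {a v : Vec F n}
    (hv : bil F n v a = 1) : ∃ c : F, (c = 1 ∨ c = -1) ∧ mv g a = c • a := by
  have h : TV (mv g a) 1 = TV a 1 := by
    have := conj_TV g a 1
    rw [← (Subgroup.mem_center_iff.1 hg (TV a 1))] at this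
    exact (mul_right_cancel this).symm
  have key : ∀ u : Vec F n, bil F n u (mv g a) • mv g a = bil F n u a • a := fun u => by
    have := congrArg (fun x => mv x u) h
    simpa [mv_TV] using this
  have hv' := key v
  rw [hv, one_smul] at hv'
  set d := bil F n v (mv g a) with hd
  have hd0 : d ≠ 0 := fun e => by
    rw [e, zero_smul] at hv'
    rw [← hv', map_zero] at hv
    exact zero_ne_one hv
  have hga : mv g a = d⁻¹ • a := (inv_smul_smul₀ hd0 _).symm.trans (congrArg _ hv')
  refine ⟨d⁻¹, ?_, hga⟩
  have h2 : d = d⁻¹ := by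
    conv_lhs => rw [hd, hga, map_smul, hv, smul_eq_mul, mul_one]
  rw [← h2]
  have : d * d = 1 := by
    nth_rw 2 [h2]
    exact mul_inv_cancel₀ hd0
  exact mul_self_eq_one_iff.1 this

theorem center_le (hn : 1 ≤ n) :
    Subgroup.center (Gsp F n) ≤ Subgroup.zpowers (negOne : Gsp F n) := by
  intro g hg
  let i : Fin n := ⟨0, by omega⟩
  obtain ⟨c, hc, hci⟩ := center_scalar hg (a := ev i) (v := -fv i) (by simp [fv_bil, ev, fv])
  have hall : ∀ k, mv g (ev k) = c • (ev k : Vec F n) ∧ mv g (fv k) = c • (fv k : Vec F n) := by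
    intro k
    constructor
    · rcases eq_or_ne k i with rfl | hk
      · exact hci
      obtain ⟨d, -, hd⟩ := center_scalar hg (a := ev i + ev k) (v := -fv i) (by simp [fv_bil, ev, fv, hk, hk.symm])
      obtain ⟨e, -, he⟩ := center_scalar hg (a := ev k) (v := -fv k) (by simp [fv_bil, ev, fv])
      rw [mv_add, hci, he] at hd
      have h1 := congrFun hd (Sum.inl i)
      have h2 := congrFun hd (Sum.inl k)
      simp [ev, hk, hk.symm] at h1 h2
      rw [he, h2, ← h1]
    · obtain ⟨e, -, he⟩ := center_scalar hg (a := fv k) (v := ev k) (by simp [bil_fv, ev])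
      obtain ⟨d, -, hd⟩ := center_scalar hg (a := ev i + fv k) (v := -fv i)
        (by simp [fv_bil, ev, fv])
      rw [mv_add, hci, he] at hd
      have h1 := congrFun hd (Sum.inl i)
      have h2 := congrFun hd (Sum.inr k)
      simp [ev, fv] at h1 h2
      rw [he, h2, ← h1]
  rcases hc with rfl | rfl
  · have : g = 1 := ext_basis (fun k => by rw [(hall k).1, mv_one, one_smul])
      (fun k => by rw [(hall k).2, mv_one, one_smul])
    rw [this]; exact one_mem _
  · have : g = negOne := ext_basis (fun k => by rw [(hall k).1, mv_negOne, neg_one_smul])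
      (fun k => by rw [(hall k).2, mv_negOne, neg_one_smul])
    rw [this]; exact Subgroup.mem_zpowers _

theorem psp_presentation [Fintype F] {m : ℕ} (hm : 2 ≤ m) (h22 : m = 2 → 2 < Fintype.card F) :
    ∃ rels : Finset (FreeGroup (Fin 2)), rels.card ≤ 80 ∧
      Nonempty (PresentedGroup (↑rels : Set (FreeGroup (Fin 2))) ≃* Cfsg.PSp m F) := by
  classical
  obtain ⟨a, b, hab⟩ := S2411.result (F := F) m hm h22
  have hP : PresB (Cfsg.PSp m F) 78 := by
    rcases eq_or_ne m 2 with rfl | hm2
    · obtain ⟨-, R, hR, ⟨e⟩⟩ := Four.main_sharp (K := F)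
      exact (of_presentation R hR e).mono (by norm_num)
    · exact ((presB_sp (F := F) (n := m) (by omega)).quotient (Subgroup.center (Gsp F m)) negOne negOne_center
        (center_le (by omega))).mono (by norm_num)
  exact hP.two a b hab

end Cfsg.Agent.SpBound
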