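import Cfsg.Agent.Lib.SpAmalgam.SpFour
import Cfsg.Agent.Lib.Classical.SpTwoGen.Torus

/-!
The four-dimensional symplectic groups are generated by two elements.
-/

set_option autoImplicit false
set_option linter.unusedSimpArgs false
set_option linter.unusedSectionVars false

namespace Cfsg.Agent.SpBound

open SpAmalgam Matrix

/-- The index order of the four coordinates. -/
def pos : Fin 2 ⊕ Fin 2 → Fin 4 := Sum.elim ![0, 1] ![2, 3]

/-- A matrix over two elements from its four rows. -/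
def lit (r : Fin 4 → Fin 4 → ZMod 2) : Matrix (Fin 2 ⊕ Fin 2) (Fin 2 ⊕ Fin 2) (ZMod 2) :=
  of fun i j => r (pos i) (pos j)

/-- The first generator. -/
def gA : Gsp (ZMod 2) 2 :=
  ⟨lit ![![0, 0, 1, 0], ![0, 1, 1, 0], ![1, 0, 1, 1], ![0, 0, 0, 1]], by
    rw [SymplecticGroup.mem_iff]; decide +kernel⟩

/-- The second generator. -/
def gB : Gsp (ZMod 2) 2 :=
  ⟨lit ![![0, 1, 0, 0], ![1, 0, 1, 0], ![0, 0, 0, 1], ![0, 0, 1, 0]], by
    rw [SymplecticGroup.mem_iff]; decide +kernel⟩

theorem wU : (gA * gA * gA * gB * gB).1 = lit ![![1, 0, 1, 0], ![0, 1, 0, 0], ![0, 0, 1, 0], ![0, 0, 0, 1]] := by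
  decide +kernel

theorem wL : (gA * gB * gB * gA * gA).1 = lit ![![1, 0, 0, 0], ![0, 1, 0, 0], ![1, 0, 1, 0], ![0, 0, 0, 1]] := by
  decide +kernel

theorem wS : (gA * gA * gA * gB).1 = lit ![![0, 1, 0, 0], ![1, 0, 0, 0], ![0, 0, 0, 1], ![0, 0, 1, 0]] := by
  decide +kernel

theorem wX : (gA * gA * gB * gB * gA * gB * gB * gA * gA).1 =
    lit ![![1, 0, 0, 1], ![0, 1, 1, 0], ![0, 0, 1, 0], ![0, 0, 0, 1]] := by
  decide +kernel

theorem zmod_two_cases : ∀ c : ZMod 2, c = 0 ∨ c = 1 := by decide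

theorem gens_two : Subgroup.closure ({gA, gB} : Set (Gsp (ZMod 2) 2)) = ⊤ := by
  have : Fact (Nat.Prime 2) := ⟨Nat.prime_two⟩
  set C := Subgroup.closure ({gA, gB} : Set (Gsp (ZMod 2) 2))
  have a : gA ∈ C := Subgroup.subset_closure (Set.mem_insert _ _)
  have b : gB ∈ C := Subgroup.subset_closure (Set.mem_insert_of_mem _ (Set.mem_singleton _))
  have key : ∀ (g w : Gsp (ZMod 2) 2) (M), w ∈ C → w.1 = M →
      (∀ (v : Vec (ZMod 2) 2) i, mv g v i = (M *ᵥ v) i) → g ∈ C := fun g w M hw hM h => by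
    have : g = w := ext_mv fun v => by
      funext i; rw [h, ← hM]; rfl
    exact this ▸ hw
  have h2 := zmod_two_cases
  have hu : emb 0 (uu 1) ∈ C := key _ _ _ (mul_mem (mul_mem (mul_mem (mul_mem a a) a) b) b) wU fun v i => by
    rcases i with i | i <;> fin_cases i <;>
      simp [mv_emb, uu_val, lit, pos, mulVec, dotProduct, Fin.sum_univ_two, ev, fv]
  have hl : emb 0 (ll 1) ∈ C := key _ _ _ (mul_mem (mul_mem (mul_mem (mul_mem a b) b) a) a) wL fun v i => by
    rcases i with i | i <;> fin_cases i <;>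
      simp [mv_emb, ll_val, lit, pos, mulVec, dotProduct, Fin.sum_univ_two, ev, fv] <;> ring
  have hs : (Four.swap4 : Gsp (ZMod 2) 2) ∈ C := key _ _ _ (mul_mem (mul_mem (mul_mem a a) a) b) wS fun v i => by
    rcases i with i | i <;> fin_cases i <;>
      simp [Four.swap4, mv_mkG, LinearMap.funLeft_apply, lit, pos, mulVec, dotProduct, Fin.sum_univ_two]
  have hx : (Four.x4 : Gsp (ZMod 2) 2) ∈ C := key _ _ _ (mul_mem (mul_mem (mul_mem (mul_mem (mul_mem (mul_mem
      (mul_mem (mul_mem a a) b) b) a) b) b) a) a) wX fun v i => by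
    rcases i with i | i <;> fin_cases i <;>
      simp [Four.x4, mv_TT Four.bil01, bil_ev, ev, lit, pos, mulVec, dotProduct, Fin.sum_univ_two,
        ZMod.neg_eq_self_mod_two] <;> ring
  have h0 : ∀ g, emb 0 g ∈ C := by
    intro g
    refine sl2_induction (p := fun g => emb 0 g ∈ C) (fun c => ?_) (fun c => ?_)
      (fun x y hx hy => by rw [map_mul]; exact mul_mem hx hy) g
    · rcases h2 c with e | e <;> rw [e]
      · rw [uu_zero, map_one]; exact one_mem _
      · exact hu
    · rcases h2 c with e | e <;> rw [e]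
      · rw [ll_zero, map_one]; exact one_mem _
      · exact hl
  refine Four.top_of_mem C h0 (fun g => ?_) hx
  rw [← Four.swap4_emb]
  exact mul_mem (mul_mem hs (h0 g)) (inv_mem hs)

theorem sp4_two_generated (F : Type*) [Field F] [Fintype F] :
    ∃ a b : Gsp F 2, Subgroup.closure ({a, b} : Set (Gsp F 2)) = ⊤ := by
  classical
  by_cases h3 : 2 < Fintype.card F
  · obtain ⟨l, hl⟩ := IsCyclic.exists_generator (α := Fˣ)
    refine ⟨_, _, SpTwoGen.torus_gen le_rfl hl fun h => ?_⟩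
    have hl1 : l = 1 := Units.ext h
    subst hl1
    have : Subsingleton Fˣ := ⟨fun x y => by
      have hx := hl x
      have hy := hl y
      rw [Subgroup.zpowers_one_eq_bot, Subgroup.mem_bot] at hx hy
      rw [hx, hy]⟩
    have h1 : Fintype.card Fˣ ≤ 1 := Fintype.card_le_one_iff_subsingleton.2 this
    rw [Fintype.card_units] at h1
    omega
  have hc : Fintype.card F = 2 := by
    have := Fintype.one_lt_card (α := F)
    omega
  let f : ZMod 2 ≃+* F := ZMod.ringEquivOfPrime F Nat.prime_two hc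
  have hn1 : (-1 : F) = 1 := by
    rw [← map_one f, ← map_neg]
    exact congrArg f (by decide)
  have hmem : ∀ g : Gsp (ZMod 2) 2, g.1.map f ∈ symplecticGroup (Fin 2) F := fun g => by
    have h := congrArg (fun M : Matrix (Fin 2 ⊕ Fin 2) (Fin 2 ⊕ Fin 2) (ZMod 2) => M.map f)
      (SymplecticGroup.mem_iff.1 g.2)
    rw [Matrix.map_mul, Matrix.map_mul] at h
    rw [SymplecticGroup.mem_iff, ← Matrix.transpose_map]
    have hJ : (Matrix.J (Fin 2) (ZMod 2)).map f = Matrix.J (Fin 2) F := by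
      ext (i | i) (j | j) <;> fin_cases i <;> fin_cases j <;> simp [Matrix.J, hn1, ZMod.neg_eq_self_mod_two]
    rwa [hJ] at h
  let φ : Gsp (ZMod 2) 2 →* Gsp F 2 :=
    MonoidHom.mk' (fun g => ⟨g.1.map f, hmem g⟩) fun g h => Subtype.ext (Matrix.map_mul (f := (f : ZMod 2 →+* F)))
  have hsurj : Function.Surjective φ := by
    intro g
    have hg : g.1.map f.symm ∈ symplecticGroup (Fin 2) (ZMod 2) := by
      have h := congrArg (fun M : Matrix (Fin 2 ⊕ Fin 2) (Fin 2 ⊕ Fin 2) F => M.map f.symm)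
        (SymplecticGroup.mem_iff.1 g.2)
      rw [Matrix.map_mul, Matrix.map_mul] at h
      rw [SymplecticGroup.mem_iff, ← Matrix.transpose_map]
      have hJ : (Matrix.J (Fin 2) F).map f.symm = Matrix.J (Fin 2) (ZMod 2) := by
        ext (i | i) (j | j) <;> fin_cases i <;> fin_cases j <;> simp [Matrix.J, hn1, ZMod.neg_eq_self_mod_two]
      rwa [hJ] at h
    exact ⟨⟨_, hg⟩, Subtype.ext (by ext i j; simp [φ])⟩
  refine ⟨φ gA, φ gB, ?_⟩
  have := congrArg (Subgroup.map φ) gens_two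
  rwa [MonoidHom.map_closure, Set.image_pair, Subgroup.map_top_of_surjective _ hsurj] at this

end Cfsg.Agent.SpBound
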