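import Cfsg.Agent.Lib.SpBound.Universal
import Cfsg.Agent.Lib.SpBound.SpFourGen
import Cfsg.Agent.Lib.BoundedPres.Sym
import Cfsg.Agent.Lib.BoundedPres.PSLn
import Cfsg.Agent.Lib.SpAmalgam.SpFourPres

/-!
A bounded presentation of the symplectic groups.
-/

set_option autoImplicit false
set_option linter.unusedSectionVars false
set_option linter.unusedSimpArgs false

namespace Cfsg.Agent.SpBound

open SpAmalgam Equiv BoundedPres
open scoped commutatorElement

theorem range_two {A : Type*} (a b : A) : Set.range ![a, b] = {a, b} := by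
  rw [Matrix.range_cons, Matrix.range_cons, Matrix.range_empty, Set.union_empty, Set.singleton_union]

theorem ext_gen {A G : Type*} [Group A] [Group G] {ι : Type*} (g : ι → A)
    (hg : Subgroup.closure (Set.range g) = ⊤) (f f' : A →* G) (h : ∀ i, f (g i) = f' (g i)) (a : A) :
    f a = f' a :=
  DFunLike.congr_fun (MonoidHom.eq_of_eqOn_dense hg (by rintro _ ⟨i, rfl⟩; exact h i)) a

theorem comm_ext {A B G : Type*} [Group A] [Group B] [Group G] {ι κ : Type*} (g : ι → A) (h : κ → B)
    (hg : Subgroup.closure (Set.range g) = ⊤) (hh : Subgroup.closure (Set.range h) = ⊤)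
    (f : A →* G) (f' : B →* G) (hc : ∀ i j, Commute (f (g i)) (f' (h j))) (a : A) (b : B) :
    Commute (f a) (f' b) := by
  have h1 : ∀ i b, Commute (f (g i)) (f' b) := fun i b => by
    have key : Subgroup.closure (Set.range h) ≤ (Subgroup.centralizer {f (g i)}).comap f' := by
      rw [Subgroup.closure_le]
      rintro _ ⟨j, rfl⟩
      exact Subgroup.mem_centralizer_singleton_iff.2 (hc i j).symm.eq
    exact (Subgroup.mem_centralizer_singleton_iff.1
      (Subgroup.mem_comap.1 (key (hh ▸ Subgroup.mem_top b)))).symm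
  have key : Subgroup.closure (Set.range g) ≤ (Subgroup.centralizer {f' b}).comap f := by
    rw [Subgroup.closure_le]
    rintro _ ⟨i, rfl⟩
    exact Subgroup.mem_centralizer_singleton_iff.2 (h1 i b).eq
  exact Subgroup.mem_centralizer_singleton_iff.1 (Subgroup.mem_comap.1 (key (hg ▸ Subgroup.mem_top a)))

theorem eval_word {A G : Type*} [Group A] [Group G] {γ δ : Type} (j : γ → δ) (vA : γ → A) (w : δ → G)
    (f : A →* G) (hf : ∀ i, f (vA i) = w (j i)) {p : FreeGroup γ} {x : A} (hp : FreeGroup.lift vA p = x) :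
    FreeGroup.lift w (FreeGroup.map j p) = f x := by
  rw [← hp]
  exact DFunLike.congr_fun (f := (FreeGroup.lift w).comp (FreeGroup.map j))
    (g := f.comp (FreeGroup.lift vA)) (FreeGroup.ext_hom _ _ fun i => by simp [hf]) p

variable {F : Type*} [Field F] [Finite F] {n : ℕ} (hn : 3 ≤ n)

theorem q_pr : (![q0 hn, q1 hn] : Fin 2 → Fin n) 0 ≠ (![q0 hn, q1 hn] : Fin 2 → Fin n) 1 := pr (q01 hn)

theorem i2_congr {P Q : Fin 2 → Fin n} {hP : P 0 ≠ P 1} {hQ : Q 0 ≠ Q 1} (h : P = Q) (x : Gsp F 2) :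
    i2 P hP x = i2 Q hQ x := by
  subst h; rfl

theorem pS_pair (σ : Perm (Fin n)) {i k : Fin n} (hik : i ≠ k) (x : Gsp F 2) :
    pS σ * i2 ![i, k] (pr hik) x * (pS σ)⁻¹ = i2 ![σ i, σ k] (pr (σ.injective.ne hik)) x := by
  rw [pS_conj]
  exact i2_congr (by funext j; fin_cases j <;> rfl) x

/-- The relations hold in the symplectic group. -/
theorem rels_sp : RelsSp hn (i2 ![q0 hn, q1 hn] (q_pr hn) : Gsp F 2 →* Gsp F n) pS where
  fixed τ h0 h1 x := by
    show pS τ * _ = _ * pS τ
    rw [← mul_inv_eq_iff_eq_mul, pS_pair τ (q01 hn)]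
    exact i2_congr (by rw [h0, h1]) x
  exch x := by
    rw [pS_pair _ (q01 hn), i2_swap]
    exact i2_congr (by funext j; fin_cases j <;> simp) x
  line x := by
    show pS _ * _ = _ * pS _
    rw [← mul_inv_eq_iff_eq_mul, pS_pair _ (q01 hn), i2_emb, i2_emb]
    simp [swap_apply_of_ne_of_ne (q01 hn) (q02 hn)]
  disj x y := by
    rw [pS_pair _ (q01 hn), i2_emb]
    refine Fx_commute (P := fun k => k = q0 hn ∨ k = q1 hn) (Q := fun k => k = q2 hn) ?_
      (i2_mem _ x (by simp) (by simp)) ?_
    · rintro k (rfl | rfl) h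
      · exact q02 hn h
      · exact q12 hn h
    · simpa [cyc3_1] using emb_mem (q2 hn) y
  far h x := by
    rw [pS_pair _ (q01 hn)]
    refine Fx_commute (P := fun k => k = q0 hn ∨ k = q1 hn)
      (Q := fun k : Fin n => k = q2 hn ∨ (k : ℕ) = 3) ?_
      (i2_mem _ x (by simp) (by simp)) (i2_mem _ _ (by simp [exch4_0]) (by simp [exch4_1]))
    rintro k (rfl | rfl) (e | e)
    · exact q02 hn e
    · simp [q0] at e
    · exact q12 hn e
    · simp [q1] at e
  near := by
    rw [pS_pair _ (q01 hn), i2_x4, i2_x4]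
    have m1 := Amalg.TT_line_mem (F := F) (y := q0 hn) (z := q1 hn) rfl 1
    have m2 := Amalg.TT_line_mem (F := F) (y := q1 hn) (z := q2 hn) rfl 1
    rw [one_smul] at m1 m2
    simpa [cyc3_0, cyc3_1] using MX_comm m1 m2
  levi := by
    simp only [pS_pair _ (q01 hn)]
    simp only [i2_x4]
    simp only [cyc3_0, cyc3_1, Matrix.cons_val_zero, Matrix.cons_val_one]
    have h12 : bil F n (ev (q1 hn)) (ev (q2 hn)) = (0 : F) := by simp [bil_ev, ev]
    have hfix : ∀ g : Gsp F 2, mv (i2 ![q0 hn, q1 hn] (q_pr hn) g) (ev (q2 hn) : Vec F n) = ev (q2 hn) :=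
      fun g => (i2_mem (Q := fun k => k = q0 hn ∨ k = q1 hn) _ g (by simp) (by simp) (q2 hn) (by
        rintro (e | e)
        · exact q02 hn e.symm
        · exact q12 hn e.symm)).1
    have hv : (ev (q1 hn) : Vec F n) = ext2 ![q0 hn, q1 hn] (ev 1) := by rw [ext2_ev]; simp
    have gsw : mv (i2 ![q0 hn, q1 hn] (q_pr hn) Four.swap4) (ev (q1 hn) : Vec F n) = ev (q0 hn) := by
      rw [mv_i2, hv, res_ext2 (q_pr hn), swap4_ev, map_sub, ext2_ev, ext2_ev]; simp
    have glv : mv (i2 ![q0 hn, q1 hn] (q_pr hn) lv4) (ev (q1 hn) : Vec F n) =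
        ev (q1 hn) + ev (q0 hn) := by
      rw [mv_i2, hv, res_ext2 (q_pr hn), lv4_ev, map_sub, map_add, ext2_ev, ext2_ev]; simp
    rw [conj_TT _ h12, mul_inv_cancel_right, gsw, hfix, conj_TT _ h12, mul_inv_cancel_right, glv, hfix]
    have h02 : bil F n (ev (q0 hn)) (ev (q2 hn)) = (0 : F) := by simp [bil_ev, ev]
    have h3 : bil F n (ev (q1 hn) + ev (q0 hn)) (ev (q2 hn)) = (0 : F) := by simp [bil_ev, ev]
    refine ext_mv fun v => ?_
    rw [mv_mul, mv_TT h12, mv_TT h02, mv_TT h3]
    simp [bil_ev, ev, add_smul, smul_add]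
    module

theorem exists_fixed_gens :
    ∃ g : Fin 2 → Perm (Fin n), (∀ i, g i (q0 hn) = q0 hn ∧ g i (q1 hn) = q1 hn) ∧
      ∀ τ : Perm (Fin n), τ (q0 hn) = q0 hn → τ (q1 hn) = q1 hn → τ ∈ Subgroup.closure (Set.range g) := by
  classical
  obtain ⟨u, v, huv⟩ := exists_perm_gen {x : Fin n // x ≠ q0 hn ∧ x ≠ q1 hn}
  refine ⟨fun i => Perm.ofSubtype (![u, v] i), fun i => ⟨Perm.ofSubtype_apply_of_not_mem _ fun h => h.1 rfl,
    Perm.ofSubtype_apply_of_not_mem _ fun h => h.2 rfl⟩, fun τ h0 h1 => ?_⟩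
  have hh : ∀ x, (τ x ≠ q0 hn ∧ τ x ≠ q1 hn) ↔ (x ≠ q0 hn ∧ x ≠ q1 hn) := by
    intro x
    have a0 : τ x = q0 hn ↔ x = q0 hn := by
      conv_lhs => rw [← h0, EmbeddingLike.apply_eq_iff_eq]
    have a1 : τ x = q1 hn ↔ x = q1 hn := by
      conv_lhs => rw [← h1, EmbeddingLike.apply_eq_iff_eq]
    exact and_congr (not_congr a0) (not_congr a1)
  have hmoved : ∀ x, τ x ≠ x → x ≠ q0 hn ∧ x ≠ q1 hn := fun x hx =>
    ⟨fun e => hx (by rw [e]; exact h0), fun e => hx (by rw [e]; exact h1)⟩
  rw [← Perm.ofSubtype_subtypePerm hh hmoved,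
    show (Set.range fun i => Perm.ofSubtype (![u, v] i)) = Perm.ofSubtype '' Set.range ![u, v] by
      rw [← Set.range_comp]; rfl, ← MonoidHom.map_closure, range_two, huv]
  exact ⟨_, Subgroup.mem_top _, rfl⟩

set_option maxHeartbeats 1000000 in
include hn in
theorem presB_sp : PresB (Gsp F n) 75 := by
  classical
  haveI := Fintype.ofFinite F
  obtain ⟨⟨R4, hR4, ⟨e4⟩⟩, -⟩ := Four.main_sharp (K := F)
  obtain ⟨α, hα, RA, vA, hRA, hvA, hgA, huA⟩ := (of_presentation R4 hR4 e4).exists_data
  obtain ⟨β, hβ, RB, vB, hRB, hvB, hgB, huB⟩ := (presB_perm (Fin n)).exists_data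
  obtain ⟨a4, b4, h4⟩ := sp4_two_generated F
  obtain ⟨a2, b2, h2⟩ := sl_two_generated (K := F) (n := 2) le_rfl
  obtain ⟨up, vp, hp⟩ := exists_perm_gen (Fin n)
  obtain ⟨fx, hfx, hfxg⟩ := exists_fixed_gens hn
  let g4 : Fin 2 → Gsp F 2 := ![a4, b4]
  let g2 : Fin 2 → S2 F := ![a2, b2]
  let gp : Fin 2 → Perm (Fin n) := ![up, vp]
  have hg4 : Subgroup.closure (Set.range g4) = ⊤ := by rw [range_two, h4]
  have hg2 : Subgroup.closure (Set.range g2) = ⊤ := by rw [range_two, h2]
  have hgp : Subgroup.closure (Set.range gp) = ⊤ := by rw [range_two, hp]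
  choose preA hpreA using fun x => exists_word vA (t := x) (hgA ▸ Subgroup.mem_top x)
  choose preB hpreB using fun x => exists_word vB (t := x) (hgB ▸ Subgroup.mem_top x)
  let WA : Gsp F 2 → FreeGroup (α ⊕ β) := fun x => FreeGroup.map Sum.inl (preA x)
  let WB : Perm (Fin n) → FreeGroup (α ⊕ β) := fun x => FreeGroup.map Sum.inr (preB x)
  let T0 : Gsp F 2 →* Gsp F n := i2 ![q0 hn, q1 hn] (q_pr hn)
  let v : α ⊕ β → Gsp F n := Sum.elim (fun i => T0 (vA i)) fun b => pS (vB b)
  let cA (x : Gsp F 2) := WB (cyc3 hn) * WA x * (WB (cyc3 hn))⁻¹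
  let s01 : Perm (Fin n) := swap (q0 hn) (q1 hn)
  let s12 : Perm (Fin n) := swap (q1 hn) (q2 hn)
  let farW : Fin 2 → FreeGroup (α ⊕ β) := fun i =>
    if h : 4 ≤ n then ⁅WA (g4 i), WB (exch4 hn h) * WA Four.x4 * (WB (exch4 hn h))⁻¹⁆ else 1
  -- words for the permutations
  have hτ : ∀ i : {i : Fin n // (i : ℕ) + 1 < n}, ∃ τ : Perm (Fin n),
      τ (q0 hn) = i.1 ∧ τ (q1 hn) = nx i.1 i.2 := fun i => exists_perm2 hn (nx_ne i.1 i.2)
  choose τ hτ0 hτ1 using hτ
  let vL : {i : Fin n // (i : ℕ) + 1 < n} × Gsp F 2 → Gsp F n :=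
    fun p => i2 ![p.1.1, nx p.1.1 p.1.2] (pr (nx_ne p.1.1 p.1.2)) p.2
  have hvL : Subgroup.closure (Set.range vL) = ⊤ := pairs_top (by omega) _ fun i k h hk g => by
    have hi : (i : ℕ) + 1 < n := hk ▸ k.2
    refine Subgroup.subset_closure ⟨(⟨i, hi⟩, g), i2_congr ?_ g⟩
    rw [show k = nx i hi from Fin.ext hk]
  choose spell hspell using fun σ => exists_word vL (t := pS (F := F) σ) (hvL ▸ Subgroup.mem_top _)
  let SP : {i : Fin n // (i : ℕ) + 1 < n} × Gsp F 2 → FreeGroup (α ⊕ β) :=
    fun p => WB (τ p.1) * WA p.2 * (WB (τ p.1))⁻¹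
  let fixR := Finset.univ.image fun p : Fin 2 × Fin 2 => ⁅WB (fx p.1), WA (g4 p.2)⁆
  let exchR := Finset.univ.image fun i : Fin 2 =>
    WB s01 * WA (g4 i) * (WB s01)⁻¹ * (WA (Four.swap4 * g4 i * Four.swap4⁻¹))⁻¹
  let lineR := Finset.univ.image fun i : Fin 2 => ⁅WB s12, WA (emb 0 (g2 i))⁆
  let disjR := Finset.univ.image fun p : Fin 2 × Fin 2 => ⁅WA (g4 p.1), cA (emb 1 (g2 p.2))⁆
  let farR := Finset.univ.image farW
  let twoR : Finset (FreeGroup (α ⊕ β)) := {⁅WA Four.x4, cA Four.x4⁆,
    cA Four.x4 * (WA Four.swap4 * cA Four.x4 * (WA Four.swap4)⁻¹) *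
      (WA lv4 * cA Four.x4 * (WA lv4)⁻¹)⁻¹}
  let spR := Finset.univ.image fun i : Fin 2 => WB (gp i) * (FreeGroup.lift SP (spell (gp i)))⁻¹
  let R := RA.image (FreeGroup.map Sum.inl) ∪ RB.image (FreeGroup.map Sum.inr) ∪ fixR ∪ exchR ∪ lineR ∪
    disjR ∪ farR ∪ twoR ∪ spR
  have hcard : R.card ≤ 75 := by
    have c2 : ∀ f : Fin 2 → FreeGroup (α ⊕ β), (Finset.univ.image f).card ≤ 2 := fun f =>
      Finset.card_image_le.trans (le_of_eq rfl)
    have c4 : ∀ f : Fin 2 × Fin 2 → FreeGroup (α ⊕ β), (Finset.univ.image f).card ≤ 4 := fun f =>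
      Finset.card_image_le.trans (le_of_eq rfl)
    refine le_trans ((Finset.card_union_le _ _).trans (Nat.add_le_add ((Finset.card_union_le _ _).trans
      (Nat.add_le_add ((Finset.card_union_le _ _).trans (Nat.add_le_add ((Finset.card_union_le _ _).trans
      (Nat.add_le_add ((Finset.card_union_le _ _).trans (Nat.add_le_add ((Finset.card_union_le _ _).trans
      (Nat.add_le_add ((Finset.card_union_le _ _).trans (Nat.add_le_add ((Finset.card_union_le _ _).trans
      (Nat.add_le_add (Finset.card_image_le.trans hRA) (Finset.card_image_le.trans hRB))) (c4 _)))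
      (c2 _))) (c2 _))) (c4 _))) (c2 _))) (show twoR.card ≤ 2 from Finset.card_le_two))) (c2 _)))
      (by norm_num)
  -- evaluations
  have vWA : ∀ x, FreeGroup.lift v (WA x) = T0 x := fun x => eval_word Sum.inl vA v T0 (fun i => rfl) (hpreA x)
  have vWB : ∀ x, FreeGroup.lift v (WB x) = pS x := fun x => eval_word Sum.inr vB v pS (fun i => rfl) (hpreB x)
  have vcA : ∀ x, FreeGroup.lift v (cA x) = pS (cyc3 hn) * T0 x * (pS (cyc3 hn))⁻¹ := fun x => by
    rw [map_mul, map_mul, map_inv, vWA, vWB]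
  have vSP : ∀ p, FreeGroup.lift v (SP p) = vL p := fun p => by
    rw [map_mul, map_mul, map_inv, vWA, vWB, pS_pair _ (q01 hn)]
    exact i2_congr (by rw [hτ0, hτ1]) _
  refine of_data R hcard v ?_ ?_ ?_
  · have RT := rels_sp (F := F) hn
    intro r hr
    simp only [R, Finset.mem_union] at hr
    rcases hr with (((((((hr | hr) | hr) | hr) | hr) | hr) | hr) | hr) | hr
    · obtain ⟨y, hy, rfl⟩ := Finset.mem_image.1 hr
      refine (DFunLike.congr_fun (f := (FreeGroup.lift v).comp (FreeGroup.map Sum.inl))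
        (g := T0.comp (FreeGroup.lift vA)) (FreeGroup.ext_hom _ _ fun i => by simp [v]) y).trans ?_
      rw [MonoidHom.comp_apply, hvA y hy, map_one]
    · obtain ⟨y, hy, rfl⟩ := Finset.mem_image.1 hr
      refine (DFunLike.congr_fun (f := (FreeGroup.lift v).comp (FreeGroup.map Sum.inr))
        (g := pS.comp (FreeGroup.lift vB)) (FreeGroup.ext_hom _ _ fun i => by simp [v]) y).trans ?_
      rw [MonoidHom.comp_apply, hvB y hy, map_one]
    · obtain ⟨⟨i, j⟩, -, rfl⟩ := Finset.mem_image.1 hr
      rw [map_commutatorElement, vWA, vWB, commutatorElement_eq_one_iff_commute]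
      exact RT.fixed _ (hfx i).1 (hfx i).2 _
    · obtain ⟨i, -, rfl⟩ := Finset.mem_image.1 hr
      rw [map_mul, map_inv, map_mul, map_mul, map_inv, vWA, vWA, vWB, mul_inv_eq_one]
      exact RT.exch _
    · obtain ⟨i, -, rfl⟩ := Finset.mem_image.1 hr
      rw [map_commutatorElement, vWA, vWB, commutatorElement_eq_one_iff_commute]
      exact RT.line _
    · obtain ⟨⟨i, j⟩, -, rfl⟩ := Finset.mem_image.1 hr
      rw [map_commutatorElement, vWA, vcA, commutatorElement_eq_one_iff_commute]
      exact RT.disj _ _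
    · obtain ⟨i, -, rfl⟩ := Finset.mem_image.1 hr
      by_cases h : 4 ≤ n
      · simp only [farW, dif_pos h, map_commutatorElement, map_mul, map_inv, vWA, vWB,
          commutatorElement_eq_one_iff_commute]
        exact RT.far h _
      · simp only [farW, dif_neg h, map_one]
    · simp only [twoR, Finset.mem_insert, Finset.mem_singleton] at hr
      rcases hr with rfl | rfl
      · rw [map_commutatorElement, vWA, vcA, commutatorElement_eq_one_iff_commute]
        exact RT.near
      · rw [map_mul, map_inv, mul_inv_eq_one]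
        simp only [cA, map_mul, map_inv, vWA, vWB]
        exact RT.levi
    · obtain ⟨i, -, rfl⟩ := Finset.mem_image.1 hr
      rw [map_mul, map_inv, vWB, mul_inv_eq_one, ← hspell]
      exact (DFunLike.congr_fun (f := (FreeGroup.lift v).comp (FreeGroup.lift SP)) (g := FreeGroup.lift vL)
        (FreeGroup.ext_hom _ _ fun p => by simp [vSP]) _).symm
  · refine eq_top_iff.2 (le_of_eq_of_le hvL.symm ((Subgroup.closure_le _).2 ?_))
    rintro _ ⟨p, rfl⟩
    exact vSP p ▸ lift_mem_closure v _
  · intro G _ w hw _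
    have hl : ∀ (y : FreeGroup (α ⊕ β)), y ∈ R → FreeGroup.lift w y = 1 := hw
    simp only [R, Finset.mem_union] at hl
    obtain ⟨φ, hφ⟩ := huA G (w ∘ Sum.inl) fun y hy => by
      refine (DFunLike.congr_fun (f := FreeGroup.lift (w ∘ Sum.inl))
        (g := (FreeGroup.lift w).comp (FreeGroup.map Sum.inl)) (FreeGroup.ext_hom _ _ fun i => by simp) y).trans ?_
      exact hl _ (Or.inl (Or.inl (Or.inl (Or.inl (Or.inl (Or.inl (Or.inl (Or.inl
        (Finset.mem_image_of_mem _ hy)))))))))
    obtain ⟨ψ, hψ⟩ := huB G (w ∘ Sum.inr) fun y hy => by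
      refine (DFunLike.congr_fun (f := FreeGroup.lift (w ∘ Sum.inr))
        (g := (FreeGroup.lift w).comp (FreeGroup.map Sum.inr)) (FreeGroup.ext_hom _ _ fun i => by simp) y).trans ?_
      exact hl _ (Or.inl (Or.inl (Or.inl (Or.inl (Or.inl (Or.inl (Or.inl (Or.inr
        (Finset.mem_image_of_mem _ hy)))))))))
    have wWA : ∀ x, FreeGroup.lift w (WA x) = φ x := fun x => eval_word Sum.inl vA w φ hφ (hpreA x)
    have wWB : ∀ x, FreeGroup.lift w (WB x) = ψ x := fun x => eval_word Sum.inr vB w ψ hψ (hpreB x)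
    have wcA : ∀ x, FreeGroup.lift w (cA x) = ψ (cyc3 hn) * φ x * (ψ (cyc3 hn))⁻¹ := fun x => by
      rw [map_mul, map_mul, map_inv, wWA, wWB]
    have RG : RelsSp hn φ ψ :=
      { fixed := fun t h0 h1 x => by
          have base : ∀ i j, Commute (ψ (fx i)) (φ (g4 j)) := fun i j => by
            have := hl _ (Or.inl (Or.inl (Or.inl (Or.inl (Or.inl (Or.inl (Or.inr
              (Finset.mem_image_of_mem _ (Finset.mem_univ (i, j))))))))))
            rwa [map_commutatorElement, wWA, wWB, commutatorElement_eq_one_iff_commute] at this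
          have key : Subgroup.closure (Set.range fx) ≤ (Subgroup.centralizer {φ x}).comap ψ := by
            rw [Subgroup.closure_le]
            rintro _ ⟨i, rfl⟩
            refine Subgroup.mem_centralizer_singleton_iff.2 ?_
            have : Subgroup.closure (Set.range g4) ≤ (Subgroup.centralizer {ψ (fx i)}).comap φ := by
              rw [Subgroup.closure_le]
              rintro _ ⟨j, rfl⟩
              exact Subgroup.mem_centralizer_singleton_iff.2 (base i j).symm.eq
            exact (Subgroup.mem_centralizer_singleton_iff.1 (this (hg4 ▸ Subgroup.mem_top x))).symm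
          exact Subgroup.mem_centralizer_singleton_iff.1 (key (hfxg t h0 h1))
        exch := fun x => ext_gen g4 hg4 ((MulAut.conj (ψ s01)).toMonoidHom.comp φ)
          (φ.comp (MulAut.conj (Four.swap4 : Gsp F 2)).toMonoidHom) (fun i => by
            have := hl _ (Or.inl (Or.inl (Or.inl (Or.inl (Or.inl (Or.inr
              (Finset.mem_image_of_mem _ (Finset.mem_univ i))))))))
            rw [map_mul, map_inv, map_mul, map_mul, map_inv, wWA, wWA, wWB, mul_inv_eq_one] at this
            exact this) x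
        line := fun x => by
          have key : Subgroup.closure (Set.range g2) ≤
              (Subgroup.centralizer {ψ s12}).comap (φ.comp (emb 0)) := by
            rw [Subgroup.closure_le]
            rintro _ ⟨i, rfl⟩
            refine Subgroup.mem_centralizer_singleton_iff.2 ?_
            have := hl _ (Or.inl (Or.inl (Or.inl (Or.inl (Or.inr
              (Finset.mem_image_of_mem _ (Finset.mem_univ i)))))))
            rw [map_commutatorElement, wWA, wWB, commutatorElement_eq_one_iff_commute] at this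
            exact this.symm.eq
          exact (Subgroup.mem_centralizer_singleton_iff.1 (key (hg2 ▸ Subgroup.mem_top x))).symm
        disj := fun x y => comm_ext g4 g2 hg4 hg2 φ
          ((MulAut.conj (ψ (cyc3 hn))).toMonoidHom.comp (φ.comp (emb 1))) (fun i j => by
            have := hl _ (Or.inl (Or.inl (Or.inl (Or.inr
              (Finset.mem_image_of_mem _ (Finset.mem_univ (i, j)))))))
            rw [map_commutatorElement, wWA, wcA, commutatorElement_eq_one_iff_commute] at this
            exact this) x y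
        far := fun h x => by
          have key : Subgroup.closure (Set.range g4) ≤ (Subgroup.centralizer
              {ψ (exch4 hn h) * φ Four.x4 * (ψ (exch4 hn h))⁻¹}).comap φ := by
            rw [Subgroup.closure_le]
            rintro _ ⟨i, rfl⟩
            refine Subgroup.mem_centralizer_singleton_iff.2 ?_
            have := hl _ (Or.inl (Or.inl (Or.inr (Finset.mem_image_of_mem farW (Finset.mem_univ i)))))
            simp only [farW, dif_pos h, map_commutatorElement, map_mul, map_inv, wWA, wWB,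
              commutatorElement_eq_one_iff_commute] at this
            exact this.eq
          exact Subgroup.mem_centralizer_singleton_iff.1 (key (hg4 ▸ Subgroup.mem_top x))
        near := by
          have := hl _ (Or.inl (Or.inr (Finset.mem_insert_self _ _)))
          rwa [map_commutatorElement, wWA, wcA, commutatorElement_eq_one_iff_commute] at this
        levi := by
          have := hl _ (Or.inl (Or.inr (Finset.mem_insert_of_mem (Finset.mem_singleton_self _))))
          rw [map_mul, map_inv, mul_inv_eq_one] at this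
          simp only [cA, map_mul, map_inv, wWA, wWB] at this
          exact this }
    obtain ⟨f, hf⟩ := exists_hom RG
    have h0 : (q0 hn : ℕ) + 1 < n := by show 0 + 1 < n; omega
    have hf0 : ∀ x, f (T0 x) = φ x := fun x => by
      rw [← Phi_base RG x]
      exact hf (q0 hn) h0 x
    have hfp : f.comp pS = ψ := MonoidHom.eq_of_eqOn_dense hgp (by
      rintro _ ⟨i, rfl⟩
      have := hl _ (Or.inr (Finset.mem_image_of_mem _ (Finset.mem_univ i)))
      rw [map_mul, map_inv, wWB, mul_inv_eq_one] at this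
      show f (pS (gp i)) = _
      rw [this, ← hspell]
      exact DFunLike.congr_fun (f := f.comp (FreeGroup.lift vL)) (g := (FreeGroup.lift w).comp (FreeGroup.lift SP))
        (FreeGroup.ext_hom _ _ fun p => by
          simp only [MonoidHom.comp_apply, FreeGroup.lift_apply_of, SP, map_mul, map_inv, wWA, wWB]
          rw [show f (vL p) = _ from hf p.1.1 p.1.2 p.2]
          exact Phi_eq RG (τ p.1) (hτ0 p.1) (hτ1 p.1) p.2) (spell (gp i)))
    refine ⟨f, fun i => ?_⟩
    rcases i with i | i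
    · exact (hf0 (vA i)).trans (hφ i)
    · exact (DFunLike.congr_fun hfp (vB i)).trans (hψ i)

end Cfsg.Agent.SpBound
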